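import Mathlib
import Cfsg.Agent.Lib.Classical.Isometry

/-!
The symmetric group of degree `N + 1` acting on even partitions of an `(N+1)`-set, realised on the
even subsets avoiding the last point, with the form "half the size modulo two".
-/

set_option autoImplicit false

namespace Cfsg.Agent.Lib.OrthTwo.EvenSets

open QuadraticMap
open Cfsg.Agent.Lib.Classical (isoGroup)

variable {M N : ℕ}

/-- the quadratic form `Σ_{i<j} x_i x_j` -/
def pairForm (M : ℕ) : QuadraticForm (ZMod 2) (Fin M → ZMod 2) :=
  LinearMap.BilinMap.toQuadraticMap (Matrix.toLinearMap₂' (ZMod 2)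
    (Matrix.of fun i j : Fin M => if i < j then (1 : ZMod 2) else 0))

theorem pairForm_single (i : Fin M) : pairForm M (Pi.single i 1) = 0 := by
  simp [pairForm, LinearMap.BilinMap.toQuadraticMap_apply, Matrix.toLinearMap₂'_apply']

theorem polar_pairForm_single {i j : Fin M} (h : i ≠ j) :
    polar (pairForm M) (Pi.single i 1) (Pi.single j 1) = 1 := by
  rw [pairForm, LinearMap.BilinMap.polar_toQuadraticMap]
  rcases h.lt_or_gt with h | h <;> simp [Matrix.toLinearMap₂'_apply', h, h.not_gt]

/-- the closed form of the polar form -/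
def polarFormula (M : ℕ) : (Fin M → ZMod 2) →ₗ[ZMod 2] (Fin M → ZMod 2) →ₗ[ZMod 2] ZMod 2 :=
  LinearMap.mk₂ (ZMod 2) (fun x y => (∑ i, x i) * (∑ i, y i) + ∑ i, x i * y i)
    (fun a b c => by simp [Finset.sum_add_distrib, add_mul]; ring)
    (fun t a b => by simp [Finset.mul_sum, mul_assoc, mul_add, Finset.sum_mul])
    (fun a b c => by simp [Finset.sum_add_distrib, mul_add]; ring)
    (fun t a b => by simp [Finset.mul_sum, mul_left_comm, mul_add, Finset.sum_mul])

theorem polar_pairForm (x y : Fin M → ZMod 2) :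
    polar (pairForm M) x y = (∑ i, x i) * (∑ i, y i) + ∑ i, x i * y i := by
  have h : polarBilin (pairForm M) = polarFormula M := by
    refine (Pi.basisFun (ZMod 2) (Fin M)).ext fun i => (Pi.basisFun (ZMod 2) (Fin M)).ext fun j => ?_
    by_cases hij : i = j
    · subst hij
      simp [polarFormula, polar_self, pairForm_single, Pi.single_apply]
      decide
    · simp [polarFormula, polar_pairForm_single hij, Pi.single_apply, Ne.symm hij]
  exact DFunLike.congr_fun (DFunLike.congr_fun h x) y

theorem pairForm_perm (σ : Equiv.Perm (Fin M)) (x : Fin M → ZMod 2) :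
    pairForm M (fun a => x (σ a)) = pairForm M x := by
  have h : (pairForm M).comp (LinearMap.funLeft (ZMod 2) (ZMod 2) σ) = pairForm M := by
    apply QuadraticMap.ext
    intro x
    induction x using Pi.single_induction with
    | zero => simp
    | add f g hf hg =>
      rw [QuadraticMap.map_add (⇑((pairForm M).comp _)), QuadraticMap.map_add (⇑(pairForm M)), hf, hg]
      congr 1
      simp only [polar, QuadraticMap.comp_apply, map_add]
      rw [show pairForm M (LinearMap.funLeft _ _ σ f + LinearMap.funLeft _ _ σ g) -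
          pairForm M (LinearMap.funLeft _ _ σ f) - pairForm M (LinearMap.funLeft _ _ σ g) =
          polar (pairForm M) (LinearMap.funLeft _ _ σ f) (LinearMap.funLeft _ _ σ g) from rfl,
        show pairForm M (f + g) - pairForm M f - pairForm M g = polar (pairForm M) f g from rfl,
        polar_pairForm, polar_pairForm]
      simp only [LinearMap.funLeft_apply]
      rw [Equiv.sum_comp σ f, Equiv.sum_comp σ g, Equiv.sum_comp σ (fun a => f a * g a)]
    | single i t =>
      have e : LinearMap.funLeft (ZMod 2) (ZMod 2) σ (Pi.single i t) = Pi.single (σ.symm i) t := by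
        ext a
        simp [LinearMap.funLeft_apply, Pi.single_apply, Equiv.eq_symm_apply]
      rw [QuadraticMap.comp_apply, e, show (Pi.single i t : Fin M → ZMod 2) = t • Pi.single i 1 by
          rw [← Pi.single_smul]; simp,
        show (Pi.single (σ.symm i) t : Fin M → ZMod 2) = t • Pi.single (σ.symm i) 1 by
          rw [← Pi.single_smul]; simp,
        QuadraticMap.map_smul, QuadraticMap.map_smul, pairForm_single, pairForm_single]
  exact DFunLike.congr_fun h x

/-- indicator vector -/
def ind (T : Finset (Fin M)) : Fin M → ZMod 2 := fun i => if i ∈ T then 1 else 0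

theorem sum_ind (T : Finset (Fin M)) : ∑ i, ind T i = (T.card : ZMod 2) := by
  simp [ind, Finset.sum_ite_mem]

theorem pairForm_ind (T : Finset (Fin M)) : pairForm M (ind T) = (T.card.choose 2 : ZMod 2) := by
  induction T using Finset.induction_on with
  | empty => simp [show ind (∅ : Finset (Fin M)) = 0 from funext fun i => by simp [ind]]
  | insert a T ha ih =>
    have e : ind (insert a T) = Pi.single a 1 + ind T := funext fun i => by
      by_cases h : i = a
      · subst h; simp [ind, ha]
      · simp [ind, h]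
    rw [e, QuadraticMap.map_add (⇑(pairForm M)), pairForm_single, ih, polar_pairForm, sum_ind,
      Finset.card_insert_of_notMem ha, Nat.choose_succ_succ']
    simp [Pi.single_apply, ind, ha]
    ring

theorem ind_supp (x : Fin M → ZMod 2) : ind (Finset.univ.filter fun i => x i = 1) = x := by
  funext i
  simp only [ind, Finset.mem_filter, Finset.mem_univ, true_and]
  rcases (by decide : ∀ t : ZMod 2, t = 0 ∨ t = 1) (x i) with h | h <;> simp [h]

theorem supp_ind (T : Finset (Fin M)) : (Finset.univ.filter fun i => ind T i = 1) = T := by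
  ext i; by_cases h : i ∈ T <;> simp [ind, h]

/-! ### The space and the action -/

/-- append a zero at the last point -/
def extZero (N : ℕ) : (Fin N → ZMod 2) →ₗ[ZMod 2] (Fin (N + 1) → ZMod 2) where
  toFun x := Fin.snoc x 0
  map_add' x y := funext fun a => by induction a using Fin.lastCases <;> simp
  map_smul' t x := funext fun a => by induction a using Fin.lastCases <;> simp

@[simp] theorem extZero_last (x : Fin N → ZMod 2) : extZero N x (Fin.last N) = 0 := by simp [extZero]

@[simp] theorem extZero_castSucc (x : Fin N → ZMod 2) (i : Fin N) :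
    extZero N x i.castSucc = x i := by simp [extZero]

theorem sum_extZero (x : Fin N → ZMod 2) : ∑ a, extZero N x a = ∑ i, x i := by
  simp [Fin.sum_univ_castSucc]

/-- even subsets of the first `N` points -/
def evenSpace (N : ℕ) : Submodule (ZMod 2) (Fin N → ZMod 2) :=
  LinearMap.ker (∑ i : Fin N, LinearMap.proj i)

theorem mem_evenSpace {x : Fin N → ZMod 2} : x ∈ evenSpace N ↔ ∑ i, x i = 0 := by
  simp [evenSpace]

/-- half the size modulo two -/
def evenQ (N : ℕ) : QuadraticForm (ZMod 2) (evenSpace N) :=
  (pairForm (N + 1)).comp ((extZero N).comp (evenSpace N).subtype)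

theorem polar_evenQ (x y : evenSpace N) : polar (evenQ N) x y = ∑ i, x.1 i * y.1 i := by
  have h : polar (evenQ N) x y = polar (pairForm (N + 1)) (extZero N x.1) (extZero N y.1) := by
    simp [polar, evenQ]
  rw [h, polar_pairForm, sum_extZero, mem_evenSpace.1 x.2, zero_mul, zero_add, Fin.sum_univ_castSucc]
  simp

theorem pair_mem (i j : Fin N) : Pi.single i 1 + Pi.single j 1 ∈ evenSpace N := by
  simp [mem_evenSpace, Finset.sum_add_distrib]
  decide

theorem nondegenerate_evenQ (hN : Odd N) : (polarBilin (evenQ N)).Nondegenerate := by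
  have key : ∀ x : evenSpace N, (∀ y, polar (evenQ N) x y = 0) → x = 0 := by
    intro x hx
    have hc : ∀ i j, x.1 i = x.1 j := fun i j => by
      have := hx ⟨_, pair_mem i j⟩
      simp [polar_evenQ, mul_add, Finset.sum_add_distrib, Pi.single_apply] at this
      exact CharTwo.add_eq_zero.1 this
    obtain ⟨r, rfl⟩ := hN
    have h0 := mem_evenSpace.1 x.2
    rw [Finset.sum_congr rfl fun i _ => hc i 0, Finset.sum_const, Finset.card_univ, Fintype.card_fin,
      nsmul_eq_mul] at h0
    have h2 : (2 : ZMod 2) = 0 := by decide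
    push_cast at h0
    rw [h2, zero_mul, zero_add, one_mul] at h0
    exact Subtype.ext (funext fun i => (hc i 0).trans h0)
  exact ⟨fun x hx => key x hx, fun x hx => key x fun y => (polar_comm _ _ _).trans (hx y)⟩

theorem finrank_evenSpace (hN : 0 < N) : Module.finrank (ZMod 2) (evenSpace N) + 1 = N := by
  have hs : Function.Surjective (∑ i : Fin N, LinearMap.proj i : (Fin N → ZMod 2) →ₗ[ZMod 2] ZMod 2) :=
    fun t => ⟨Pi.single ⟨0, hN⟩ t, by simp⟩
  have := LinearMap.finrank_range_add_finrank_ker
    (∑ i : Fin N, LinearMap.proj i : (Fin N → ZMod 2) →ₗ[ZMod 2] ZMod 2)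
  rw [LinearMap.range_eq_top.2 hs, finrank_top, Module.finrank_self, Module.finrank_fin_fun] at this
  exact (add_comm _ _).trans this

/-- move the points and complement when the last point is hit -/
def moveFun (σ : Equiv.Perm (Fin (N + 1))) : (Fin N → ZMod 2) →ₗ[ZMod 2] (Fin N → ZMod 2) where
  toFun x i := extZero N x (σ.symm i.castSucc) + extZero N x (σ.symm (Fin.last N))
  map_add' x y := funext fun i => by simp [map_add]; abel
  map_smul' t x := funext fun i => by simp [map_smul, mul_add]

theorem extZero_moveFun (σ : Equiv.Perm (Fin (N + 1))) (x : Fin N → ZMod 2) (a : Fin (N + 1)) :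
    extZero N (moveFun σ x) a = extZero N x (σ.symm a) + extZero N x (σ.symm (Fin.last N)) := by
  induction a using Fin.lastCases with
  | last => simp [CharTwo.add_self_eq_zero]
  | cast i => simp [moveFun]

theorem moveFun_one (x : Fin N → ZMod 2) : moveFun 1 x = x := funext fun i => by
  simp [moveFun, Equiv.Perm.one_def]

theorem moveFun_mul (σ τ : Equiv.Perm (Fin (N + 1))) (x : Fin N → ZMod 2) :
    moveFun (τ * σ) x = moveFun τ (moveFun σ x) := funext fun i => by
  have h1 : moveFun τ (moveFun σ x) i = extZero N (moveFun σ x) (τ.symm i.castSucc) +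
      extZero N (moveFun σ x) (τ.symm (Fin.last N)) := rfl
  rw [h1, extZero_moveFun, extZero_moveFun, add_add_add_comm, CharTwo.add_self_eq_zero, add_zero]
  simp [moveFun, Equiv.Perm.mul_def]

theorem moveFun_mem (hN : Odd N) (σ : Equiv.Perm (Fin (N + 1))) {x : Fin N → ZMod 2}
    (hx : x ∈ evenSpace N) : moveFun σ x ∈ evenSpace N := by
  rw [mem_evenSpace] at hx ⊢
  rw [← sum_extZero, Finset.sum_congr rfl fun a _ => extZero_moveFun σ x a, Finset.sum_add_distrib,
    Equiv.sum_comp σ.symm, sum_extZero, hx, zero_add, Finset.sum_const, Finset.card_univ,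
    Fintype.card_fin, nsmul_eq_mul]
  obtain ⟨r, rfl⟩ := hN
  have h2 : (2 : ZMod 2) = 0 := by decide
  have e : ((2 * r + 1 + 1 : ℕ) : ZMod 2) = 0 := by
    push_cast
    linear_combination (↑r + 1) * h2
  rw [e, zero_mul]

/-- the action on the even subsets -/
def evenAct (hN : Odd N) : Equiv.Perm (Fin (N + 1)) →* (evenSpace N ≃ₗ[ZMod 2] evenSpace N) where
  toFun σ :=
    { (moveFun σ).restrict fun _ hx => moveFun_mem hN σ hx with
      invFun := fun x => ⟨moveFun σ⁻¹ x.1, moveFun_mem hN _ x.2⟩
      left_inv := fun x => Subtype.ext (by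
        show moveFun σ⁻¹ (moveFun σ x.1) = x.1
        rw [← moveFun_mul, inv_mul_cancel, moveFun_one])
      right_inv := fun x => Subtype.ext (by
        show moveFun σ (moveFun σ⁻¹ x.1) = x.1
        rw [← moveFun_mul, mul_inv_cancel, moveFun_one]) }
  map_one' := LinearEquiv.ext fun x => Subtype.ext (moveFun_one x.1)
  map_mul' τ σ := LinearEquiv.ext fun x => Subtype.ext (moveFun_mul σ τ x.1)

theorem evenAct_coe (hN : Odd N) (σ : Equiv.Perm (Fin (N + 1))) (x : evenSpace N) :
    (evenAct hN σ x).1 = moveFun σ x.1 := rfl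

theorem evenAct_mem_isoGroup (hN : N % 4 = 3) (σ : Equiv.Perm (Fin (N + 1))) :
    evenAct (Nat.odd_iff.2 (by omega)) σ ∈ isoGroup (F := ZMod 2) ⇑(evenQ N) := by
  intro x
  show pairForm (N + 1) (extZero N (moveFun σ x.1)) = pairForm (N + 1) (extZero N x.1)
  set X := extZero N x.1
  set c := X (σ.symm (Fin.last N))
  have e : extZero N (moveFun σ x.1) = (fun a => X (σ.symm a)) + c • ind Finset.univ := by
    funext a
    simp [extZero_moveFun, X, c, ind]
  have hchoose : ((N + 1).choose 2 : ZMod 2) = 0 := by
    rw [Nat.choose_two_right, ZMod.natCast_eq_zero_iff_even, Nat.even_iff]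
    obtain ⟨r, hr⟩ : ∃ r, N = 4 * r + 3 := ⟨N / 4, by omega⟩
    rw [hr, show (4 * r + 3 + 1) * (4 * r + 3 + 1 - 1) / 2 = 2 * ((r + 1) * (4 * r + 3)) by
      rw [show 4 * r + 3 + 1 - 1 = 4 * r + 3 by omega]
      apply Nat.div_eq_of_eq_mul_left two_pos
      ring]
    omega
  rw [e, QuadraticMap.map_add (⇑(pairForm (N + 1))), QuadraticMap.map_smul, pairForm_ind,
    Finset.card_univ, Fintype.card_fin, hchoose, smul_zero, add_zero, polar_smul_right, polar_pairForm,
    sum_ind, Finset.card_univ, Fintype.card_fin, pairForm_perm σ.symm X]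
  have h0 : ∑ a, X (σ.symm a) = 0 := by
    rw [Equiv.sum_comp σ.symm X, sum_extZero, mem_evenSpace.1 x.2]
  simp [h0, ind]

/-- the homomorphism to the isometry group -/
def evenHom (hN : N % 4 = 3) : Equiv.Perm (Fin (N + 1)) →* isoGroup (F := ZMod 2) ⇑(evenQ N) :=
  (evenAct (Nat.odd_iff.2 (by omega))).codRestrict _ (evenAct_mem_isoGroup hN)

theorem evenHom_injective (hN : N % 4 = 3) (h5 : 4 < N) : Function.Injective (evenHom hN) := by
  refine (injective_iff_map_eq_one _).2 fun σ hσ => ?_
  have hfix : ∀ x : evenSpace N, moveFun σ x.1 = x.1 := fun x => by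
    have h2 : evenAct (Nat.odd_iff.2 (by omega)) σ = 1 := congrArg Subtype.val hσ
    have := congrArg (fun g : evenSpace N ≃ₗ[ZMod 2] evenSpace N => (g x).1) h2
    exact this
  have avoid : ∀ l : Finset (Fin N), l.card ≤ 4 → ∃ i, i ∉ l := fun l hl => by
    obtain ⟨i, -, hi⟩ := Finset.exists_mem_notMem_of_card_lt_card
      (s := l) (t := Finset.univ) (by simp; omega)
    exact ⟨i, hi⟩
  -- the last point is fixed
  have hlast : σ.symm (Fin.last N) = Fin.last N := by
    rcases Fin.eq_castSucc_or_eq_last (σ.symm (Fin.last N)) with ⟨p, hp⟩ | hp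
    swap
    · exact hp
    exfalso
    obtain ⟨i, hi⟩ := avoid {p} (by simp)
    rw [Finset.mem_singleton] at hi
    obtain ⟨q, hq⟩ : ∃ q : Fin N, σ i.castSucc = q.castSucc := by
      rcases Fin.eq_castSucc_or_eq_last (σ i.castSucc) with h | h
      · exact h
      · exfalso
        rw [← h, Equiv.symm_apply_apply] at hp
        exact hi (Fin.castSucc_injective _ hp)
    obtain ⟨l, hl⟩ := avoid {p, i, q} (Finset.card_le_three.trans (by norm_num))
    simp only [Finset.mem_insert, Finset.mem_singleton, not_or] at hl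
    have h := congrFun (hfix ⟨_, pair_mem p i⟩) l
    obtain ⟨l', hl'⟩ : ∃ l' : Fin N, σ.symm l.castSucc = l'.castSucc := by
      rcases Fin.eq_castSucc_or_eq_last (σ.symm l.castSucc) with h' | h'
      · exact h'
      · exfalso
        have h4 := congrFun (hfix ⟨_, pair_mem p i⟩) l
        simp [moveFun, h', hp, hl.1, hl.2.1, Ne.symm hi] at h4
    have hl'p : l' ≠ p := fun e => by
      have := σ.symm.injective (hl'.trans (e ▸ hp.symm))
      exact (Fin.castSucc_lt_last l).ne this
    have hl'i : l' ≠ i := fun e => by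
      have := congrArg σ hl'
      rw [Equiv.apply_symm_apply, e, hq] at this
      exact hl.2.2 (Fin.castSucc_injective _ this)
    simp [moveFun, hl', hp, hl'p, hl'i, hl.1, hl.2.1, Ne.symm hi] at h
  have hlast' : σ (Fin.last N) = Fin.last N :=
    (congrArg σ hlast).symm.trans (σ.apply_symm_apply _)
  refine Equiv.ext fun a => ?_
  induction a using Fin.lastCases with
  | last => simpa using hlast'
  | cast i =>
    obtain ⟨q, hq⟩ : ∃ q : Fin N, σ i.castSucc = q.castSucc := by
      rcases Fin.eq_castSucc_or_eq_last (σ i.castSucc) with h | h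
      · exact h
      · exact absurd (σ.injective (h.trans hlast'.symm)) (Fin.castSucc_lt_last i).ne
    by_contra hne
    obtain ⟨j, hj⟩ := avoid {i, q} (Finset.card_le_two.trans (by norm_num))
    simp only [Finset.mem_insert, Finset.mem_singleton, not_or] at hj
    have hqi : q ≠ i := fun e => hne (by rw [hq, e]; simp)
    have h := congrFun (hfix ⟨_, pair_mem i j⟩) q
    have hs : σ.symm q.castSucc = i.castSucc := by rw [← hq, Equiv.symm_apply_apply]
    simp [moveFun, hs, hlast, hqi, Ne.symm hj.1, Ne.symm hj.2] at h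

/-! ### Zeros -/

/-- numbers of subsets by size modulo four -/
def resCount : ℕ → ZMod 4 → ℤ
  | 0, r => if r = 0 then 1 else 0
  | n + 1, r => resCount n r + resCount n (r - 1)

theorem card_powerset_res {α : Type*} [DecidableEq α] (s : Finset α) :
    ∀ r : ZMod 4, ((s.powerset.filter fun T => (T.card : ZMod 4) = r).card : ℤ) = resCount s.card r := by
  induction s using Finset.induction_on with
  | empty =>
    intro r
    by_cases h : (0 : ZMod 4) = r
    · subst h; simp [resCount, Finset.filter_singleton]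
    · simp [resCount, Finset.filter_singleton, h, Ne.symm h]
  | insert a s ha ih =>
    intro r
    rw [Finset.card_insert_of_notMem ha, resCount, ← ih r, ← ih (r - 1), Finset.powerset_insert,
      Finset.filter_union, Finset.card_union_of_disjoint, Finset.filter_image,
      Finset.card_image_of_injOn]
    · push_cast
      congr 2
      refine congrArg Finset.card (Finset.filter_congr fun T hT => ?_)
      rw [Finset.card_insert_of_notMem fun h => ha (Finset.mem_powerset.1 hT h), Nat.cast_succ,
        eq_sub_iff_add_eq]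
    · intro T hT T' hT' e
      have h1 := Finset.mem_powerset.1 (Finset.mem_filter.1 hT).1
      have h2 := Finset.mem_powerset.1 (Finset.mem_filter.1 hT').1
      rw [← Finset.erase_insert (fun h => ha (h1 h)), ← Finset.erase_insert (fun h => ha (h2 h))]
      exact congrArg (fun U => Finset.erase U a) e
    · rw [Finset.disjoint_left]
      intro T hT hT'
      have h1 := Finset.mem_powerset.1 (Finset.mem_filter.1 hT).1
      obtain ⟨U, -, rfl⟩ := Finset.mem_image.1 (Finset.mem_filter.1 hT').1
      exact ha (h1 (Finset.mem_insert_self a U))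

theorem resCount_four (k : ℕ) :
    resCount (4 * k + 3) 0 = 2 ^ (4 * k + 1) - (-4) ^ k ∧
    resCount (4 * k + 3) 1 = 2 ^ (4 * k + 1) + (-4) ^ k ∧
    resCount (4 * k + 3) 2 = 2 ^ (4 * k + 1) + (-4) ^ k ∧
    resCount (4 * k + 3) 3 = 2 ^ (4 * k + 1) - (-4) ^ k := by
  induction k with
  | zero => decide
  | succ k ih =>
    obtain ⟨h0, h1, h2, h3⟩ := ih
    have e : ∀ r : ZMod 4, resCount (4 * (k + 1) + 3) r = 2 * resCount (4 * k + 3) r +
        4 * resCount (4 * k + 3) (r - 1) + 6 * resCount (4 * k + 3) (r - 2) +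
        4 * resCount (4 * k + 3) (r - 3) := fun r => by
      rw [show 4 * (k + 1) + 3 = 4 * k + 3 + 1 + 1 + 1 + 1 by ring]
      generalize 4 * k + 3 = n
      simp only [resCount, sub_sub]
      rw [show (1 : ZMod 4) + 1 = 2 by decide, show (2 : ZMod 4) + 1 = 3 by decide,
        show (3 : ZMod 4) + 1 = 0 by decide, sub_zero]
      ring
    have a1 : (0 : ZMod 4) - 1 = 3 ∧ (0 : ZMod 4) - 2 = 2 ∧ (0 : ZMod 4) - 3 = 1 ∧
        (1 : ZMod 4) - 1 = 0 ∧ (1 : ZMod 4) - 2 = 3 ∧ (1 : ZMod 4) - 3 = 2 ∧
        (2 : ZMod 4) - 1 = 1 ∧ (2 : ZMod 4) - 2 = 0 ∧ (2 : ZMod 4) - 3 = 3 ∧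
        (3 : ZMod 4) - 1 = 2 ∧ (3 : ZMod 4) - 2 = 1 ∧ (3 : ZMod 4) - 3 = 0 := by decide
    obtain ⟨c1, c2, c3, c4, c5, c6, c7, c8, c9, c10, c11, c12⟩ := a1
    refine ⟨?_, ?_, ?_, ?_⟩ <;>
      rw [e] <;>
      simp only [c1, c2, c3, c4, c5, c6, c7, c8, c9, c10, c11, c12, h0, h1, h2, h3] <;> ring

theorem natCard_zeros_evenQ (k : ℕ) :
    (Nat.card {v : evenSpace (4 * k + 3) // evenQ (4 * k + 3) v = 0} : ℤ)
      = 2 ^ (4 * k + 1) - (-4) ^ k := by
  rw [← (resCount_four k).1]
  set N := 4 * k + 3
  have hcard : N = (Finset.univ : Finset (Fin N)).card := by simp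
  rw [show resCount N 0 = resCount (Finset.univ : Finset (Fin N)).card 0 by rw [← hcard],
    ← card_powerset_res, Finset.powerset_univ]
  congr 1
  rw [← Fintype.card_subtype, ← Nat.card_eq_fintype_card]
  have hq : ∀ T : Finset (Fin N), pairForm (N + 1) (extZero N (ind T)) = (T.card.choose 2 : ZMod 2) := by
    intro T
    have : extZero N (ind T) = ind (T.map Fin.castSuccEmb) := funext fun a => by
      induction a using Fin.lastCases with
      | last => simp [ind, (Fin.castSucc_lt_last _).ne]
      | cast i => simp [ind]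
    rw [this, pairForm_ind, Finset.card_map]
  have hiff : ∀ T : Finset (Fin N),
      (T.card : ZMod 4) = 0 ↔ (T.card : ZMod 2) = 0 ∧ (T.card.choose 2 : ZMod 2) = 0 := by
    intro T
    rw [ZMod.natCast_eq_zero_iff_even, ZMod.natCast_eq_zero_iff_even, ZMod.natCast_eq_zero_iff,
      Nat.choose_two_right, Nat.even_iff, Nat.even_iff]
    generalize T.card = t
    obtain ⟨u, rfl | rfl⟩ := Nat.even_or_odd' t
    · have e : 2 * u * (2 * u - 1) / 2 = u * (2 * u - 1) := by
        rw [mul_assoc, Nat.mul_div_cancel_left _ two_pos]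
      rw [e]
      rcases Nat.eq_zero_or_pos u with rfl | hu
      · simp
      · have hm : u * (2 * u - 1) % 2 = u % 2 := by
          rw [Nat.mul_mod, show (2 * u - 1) % 2 = 1 by omega, mul_one, Nat.mod_mod]
        rw [hm]
        omega
    · constructor <;> intro h <;> omega
  refine Nat.card_congr
    { toFun := fun v => ⟨Finset.univ.filter fun i => v.1.1 i = 1, ?_⟩
      invFun := fun T => ⟨⟨ind T.1, ?_⟩, ?_⟩
      left_inv := fun v => Subtype.ext (Subtype.ext (ind_supp _))
      right_inv := fun T => Subtype.ext (supp_ind _) }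
  · refine (hiff _).2 ⟨?_, ?_⟩
    · rw [← sum_ind, ind_supp]; exact mem_evenSpace.1 v.1.2
    · rw [← hq, ind_supp]; exact v.2
  · rw [mem_evenSpace, sum_ind]
    exact ((hiff _).1 T.2).1
  · show pairForm (N + 1) (extZero N (ind T.1)) = 0
    rw [hq]
    exact ((hiff _).1 T.2).2

end Cfsg.Agent.Lib.OrthTwo.EvenSets
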